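import Groth.Agent.AssPtX.Basic
import Groth.Agent.KFlatLib.Perfect.LocFree
import Groth.Agent.QCoh.VanIdeal
import Groth.Agent.DimFormula.DedekindFlat
import Mathlib.AlgebraicGeometry.Morphisms.Flat

/-!
Flatness over bases with principal ideal domains as local rings in terms of associated points.
-/

set_option autoImplicit false
set_option linter.style.haveILetI false
set_option backward.isDefEq.respectTransparency false

universe u

open CategoryTheory AlgebraicGeometry TopologicalSpace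

namespace Groth.Agent.FlatAssHx

variable {X Y : Scheme.{u}} (f : X ⟶ Y)

/-- Torsion-freeness of a stalk from the position of the associated points. -/
theorem eq_zero_of_mul (h : ∀ x : X, Curv2.IsWeakAssPoint (Coh.structureModule X) x → IsField (Y.presheaf.stalk (f x)))
    (x : X) [IsDomain (Y.presheaf.stalk (f x))] (r : Y.presheaf.stalk (f x)) (hr : r ≠ 0)
    (z : X.presheaf.stalk x) (hz : f.stalkMap x r * z = 0) : z = 0 := by
  obtain ⟨V, hV, hxV, -⟩ := exists_isAffineOpen_mem_and_subset (x := f x) (U := ⊤) trivial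
  obtain ⟨U, hU, hxU, hUV⟩ := exists_isAffineOpen_mem_and_subset (x := x) (U := f ⁻¹ᵁ V) hxV
  letI : Algebra Γ(X, U) (X.presheaf.stalk x) := (X.presheaf.germ U x hxU).hom.toAlgebra
  haveI : IsLocalization.AtPrime (X.presheaf.stalk x) (hU.primeIdealOf ⟨x, hxU⟩).asIdeal :=
    hU.isLocalization_stalk ⟨x, hxU⟩
  letI : Algebra Γ(Y, V) (Y.presheaf.stalk (f x)) := (Y.presheaf.germ V (f x) hxV).hom.toAlgebra
  haveI : IsLocalization.AtPrime (Y.presheaf.stalk (f x)) (hV.primeIdealOf ⟨f x, hxV⟩).asIdeal :=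
    hV.isLocalization_stalk ⟨f x, hxV⟩
  -- numerators
  obtain ⟨⟨a, v⟩, hav⟩ := IsLocalization.surj (hV.primeIdealOf ⟨f x, hxV⟩).asIdeal.primeCompl r
  obtain ⟨⟨t, w⟩, htw⟩ := IsLocalization.surj (hU.primeIdealOf ⟨x, hxU⟩).asIdeal.primeCompl z
  have ha : algebraMap Γ(Y, V) (Y.presheaf.stalk (f x)) a ≠ 0 := by
    rw [← hav]
    exact mul_ne_zero hr (IsLocalization.map_units _ v).ne_zero
  by_contra hne
  have hmap : algebraMap Γ(X, U) (X.presheaf.stalk x) (f.appLE V U hUV a) =
      f.stalkMap x (algebraMap Γ(Y, V) (Y.presheaf.stalk (f x)) a) := by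
    show X.presheaf.germ U x hxU (f.appLE V U hUV a) = f.stalkMap x (Y.presheaf.germ V (f x) hxV a)
    rw [Scheme.Hom.germ_stalkMap_apply, Scheme.Hom.appLE, CommRingCat.comp_apply,
      TopCat.Presheaf.germ_res_apply]
  have hat : algebraMap Γ(X, U) (X.presheaf.stalk x) (f.appLE V U hUV a * t) = 0 := by
    rw [map_mul, hmap, ← hav, ← htw, map_mul]
    rw [mul_mul_mul_comm, hz, zero_mul]
  obtain ⟨s, hs⟩ := (IsLocalization.map_eq_zero_iff (hU.primeIdealOf ⟨x, hxU⟩).asIdeal.primeCompl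
    (X.presheaf.stalk x) _).1 hat
  -- an associated prime below `x` containing the annihilator of `t`
  let M : X.Modules := Coh.structureModule X
  let t' : Γ(M, U) := t
  have hle : WeakAss.annEl Γ(X, U) t' ≤ (hU.primeIdealOf ⟨x, hxU⟩).asIdeal := fun c hc => by
    by_contra hcx
    have h0 : c * t = 0 := WeakAss.mem_annEl.1 hc
    have h1 : algebraMap Γ(X, U) (X.presheaf.stalk x) t = 0 :=
      (IsLocalization.map_eq_zero_iff (hU.primeIdealOf ⟨x, hxU⟩).asIdeal.primeCompl _ t).2 ⟨⟨c, hcx⟩, h0⟩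
    rw [← htw] at h1
    exact hne ((IsUnit.mul_left_eq_zero (IsLocalization.map_units _ w)).1 h1)
  obtain ⟨p, hp, hpx⟩ := Ideal.exists_minimalPrimes_le hle
  obtain ⟨y, hyU, hyp, hy⟩ := AssPtX.exists_isWeakAssPoint (F := M) QCoh.isQCoh_structureModule hU
    (WeakAss.mem_weakAss_iff.2 ⟨t', hp⟩)
  have hap : f.appLE V U hUV a ∈ p := by
    have : (s : Γ(X, U)) * f.appLE V U hUV a ∈ WeakAss.annEl Γ(X, U) t' :=
      WeakAss.mem_annEl.2 (show (s : Γ(X, U)) * f.appLE V U hUV a * t = 0 by rw [mul_assoc]; exact hs)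
    exact ((hp.1.1).mem_or_mem (hp.1.2 this)).resolve_left fun hsp => s.2 (hpx hsp)
  -- the image of `y` has a field as local ring, in which `a` does not vanish
  have hyV : f y ∈ V := hUV hyU
  have hay : Y.presheaf.germ V (f y) hyV a = 0 := by
    by_contra h0
    letI := (h y hy).toField
    have hu : IsUnit (Y.presheaf.germ V (f y) hyV a) := isUnit_iff_ne_zero.2 h0
    have hu' := hu.map (f.stalkMap y).hom
    rw [show (f.stalkMap y).hom (Y.presheaf.germ V (f y) hyV a) = X.presheaf.germ U y hyU (f.appLE V U hUV a) by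
      show f.stalkMap y (Y.presheaf.germ V (f y) hyV a) = _
      rw [Scheme.Hom.germ_stalkMap_apply, Scheme.Hom.appLE, CommRingCat.comp_apply,
        TopCat.Presheaf.germ_res_apply]] at hu'
    letI : Algebra Γ(X, U) (X.presheaf.stalk y) := (X.presheaf.germ U y hyU).hom.toAlgebra
    haveI : IsLocalization.AtPrime (X.presheaf.stalk y) (hU.primeIdealOf ⟨y, hyU⟩).asIdeal :=
      hU.isLocalization_stalk ⟨y, hyU⟩
    exact ((IsLocalization.AtPrime.isUnit_to_map_iff (X.presheaf.stalk y) _ _).1 hu') (hyp.symm ▸ hap)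
  letI : Algebra Γ(Y, V) (Y.presheaf.stalk (f y)) := (Y.presheaf.germ V (f y) hyV).hom.toAlgebra
  haveI : IsLocalization.AtPrime (Y.presheaf.stalk (f y)) (hV.primeIdealOf ⟨f y, hyV⟩).asIdeal :=
    hV.isLocalization_stalk ⟨f y, hyV⟩
  obtain ⟨⟨c, hc⟩, hca⟩ := (IsLocalization.map_eq_zero_iff (hV.primeIdealOf ⟨f y, hyV⟩).asIdeal.primeCompl
    (Y.presheaf.stalk (f y)) a).1 hay
  have hca' : algebraMap Γ(Y, V) (Y.presheaf.stalk (f x)) c = 0 := by
    refine (mul_eq_zero.1 ?_).resolve_right ha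
    rw [← map_mul]
    exact (congrArg _ hca).trans (map_zero _)
  obtain ⟨⟨e, he⟩, hec⟩ := (IsLocalization.map_eq_zero_iff (hV.primeIdealOf ⟨f x, hxV⟩).asIdeal.primeCompl
    (Y.presheaf.stalk (f x)) c).1 hca'
  have hyx : y ⤳ x := by
    exact (specializes_of_eq (hU.fromSpec_primeIdealOf ⟨y, hyU⟩).symm).trans
      ((((PrimeSpectrum.le_iff_specializes _ _).1 (show (hU.primeIdealOf ⟨y, hyU⟩).asIdeal ≤
        (hU.primeIdealOf ⟨x, hxU⟩).asIdeal from hyp.symm ▸ hpx)).map hU.fromSpec.continuous).trans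
        (specializes_of_eq (hU.fromSpec_primeIdealOf ⟨x, hxU⟩)))
  have hVle : (hV.primeIdealOf ⟨f y, hyV⟩).asIdeal ≤ (hV.primeIdealOf ⟨f x, hxV⟩).asIdeal := by
    refine (PrimeSpectrum.le_iff_specializes _ _).2 (hV.fromSpec.isOpenEmbedding.isInducing.specializes_iff.1 ?_)
    rw [hV.fromSpec_primeIdealOf ⟨f y, hyV⟩, hV.fromSpec_primeIdealOf ⟨f x, hxV⟩]
    exact hyx.map f.continuous
  exact hc ((((hV.primeIdealOf ⟨f y, hyV⟩).isPrime.mem_or_mem
    (show e * c ∈ (hV.primeIdealOf ⟨f y, hyV⟩).asIdeal by rw [show e * c = 0 from hec]; exact zero_mem _)).resolve_left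
      fun h1 => he (hVle h1)))

/-- Flatness over a base whose local rings are principal ideal domains. -/
theorem flat_of_assPoints (hY : ∀ y : Y, IsRegularLocalRing (Y.presheaf.stalk y) ∧
      ringKrullDim (Y.presheaf.stalk y) ≤ 1)
    (h : ∀ x : X, Curv2.IsAssPoint (Coh.structureModule X) x → IsField (Y.presheaf.stalk (f x))) : Flat f := by
  refine Flat.of_stalkMap f fun x => ?_
  haveI := (hY (f x)).1
  haveI := RegLoc6.isDomain_of_isRegularLocalRing (Y.presheaf.stalk (f x))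
  haveI := DimFormula.isPrincipalIdealRing_of_regular_dim_le_one (hY (f x)).2
  algebraize [(f.stalkMap x).hom]
  show Module.Flat (Y.presheaf.stalk (f x)) (X.presheaf.stalk x)
  rw [Module.Flat.flat_iff_torsion_eq_bot_of_isBezout, eq_bot_iff]
  rintro z ⟨⟨r, hr⟩, hrz⟩
  exact eq_zero_of_mul f (fun y hy => h y (AssPtX.isAssPoint_iff.2 hy)) x r (nonZeroDivisors.ne_zero hr) z
    (show f.stalkMap x r * z = 0 by rw [← hrz]; rfl)

/-- Conversely, flatness sends associated points to points with a field as local ring. -/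
theorem isField_of_flat [Flat f] {x : X} (hx : Curv2.IsAssPoint (Coh.structureModule X) x)
    [IsDomain (Y.presheaf.stalk (f x))] : IsField (Y.presheaf.stalk (f x)) := by
  rw [IsLocalRing.isField_iff_maximalIdeal_eq, eq_bot_iff]
  intro r hr
  by_contra hr0
  have hflat := Flat.stalkMap f x
  algebraize [(f.stalkMap x).hom]
  haveI : Module.Flat (Y.presheaf.stalk (f x)) (X.presheaf.stalk x) := hflat
  obtain ⟨m, hm⟩ := AssPtX.isWeakAssPoint_iff.1 (AssPtX.isAssPoint_iff.1 hx)
  have hne : m ≠ 0 := fun e => by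
    refine (IsLocalRing.maximalIdeal.isMaximal (X.presheaf.stalk x)).ne_top (top_le_iff.1 ?_)
    refine le_trans ?_ hm.1.2
    intro c _
    exact (WeakAss.mem_annEl).2 (by rw [e, smul_zero])
  have hmem : f.stalkMap x r ∈ IsLocalRing.maximalIdeal (X.presheaf.stalk x) :=
    IsLocalRing.mem_maximalIdeal _ |>.2 fun hu => (IsLocalRing.mem_maximalIdeal r).1 hr
      ((isUnit_map_iff (f.stalkMap x).hom r).1 hu)
  have hrad : f.stalkMap x r ∈ (WeakAss.annEl (X.presheaf.stalk x) m).radical :=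
    ((AssPtX.radical_eq_maximalIdeal_iff _).2 hm).ge hmem
  obtain ⟨n, hn⟩ := hrad
  have hn' : (f.stalkMap x r) ^ n • m = 0 := WeakAss.mem_annEl.1 hn
  let e : (Coh.structureModule X).presheaf.stalk x ≃ₗ[X.presheaf.stalk x] X.presheaf.stalk x :=
    (KFlatLib.stalkUnitEquiv x).symm
  have h1 : (f.stalkMap x r) ^ n * e m = 0 := by rw [← smul_eq_mul, ← map_smul, hn', map_zero]
  refine hne ((LinearEquiv.map_eq_zero_iff e).1 ?_)
  have hreg : IsSMulRegular (X.presheaf.stalk x) (algebraMap (Y.presheaf.stalk (f x)) (X.presheaf.stalk x) (r ^ n)) :=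
    IsSMulRegular.of_flat ((isRegular_iff_ne_zero.2 (pow_ne_zero n hr0)).left)
  refine hreg ?_
  show algebraMap (Y.presheaf.stalk (f x)) (X.presheaf.stalk x) (r ^ n) * e m = _
  simp only [smul_zero, map_pow]
  exact h1

end Groth.Agent.FlatAssHx
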